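import Mathlib
import Cfsg.Agent.Lib.Helper14.OCls.Defs
import Cfsg.Agent.Lib.Helper40.GUPrimeOrder

/-!
# OCLS package [COUNT]: counting invariant tuples of bounded weighted sum
-/

set_option autoImplicit false

namespace Cfsg.Agent.Lib.Helper60.OCls

open Cfsg.Agent.Lib.Helper40.PrimeOrderGL Cfsg.Agent.Lib.Helper40.GUPrimeOrder

universe u

/-- the involution is trivial: the invariance condition is void -/
theorem card_cond_id (T : Type u) [Fintype T] [DecidableEq T] (τ : T → T) (hτ : ∀ x, τ x = x)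
    (C : (T → ℕ) → Prop) (N : ℕ) (hC : ∀ a : T → ℕ, C a ↔ ∑ x, a x ≤ N) :
    Nat.card {a : T → ℕ // a ≠ 0 ∧ (∀ x, a (τ x) = a x) ∧ C a} =
      Nat.choose (N + Fintype.card T) (Fintype.card T) - 1 := by
  rw [← card_tuples T N]
  refine Nat.card_congr (Equiv.subtypeEquivRight (fun a => ?_))
  rw [hC a]
  constructor
  · rintro ⟨h1, -, h3⟩
    exact ⟨h1, h3⟩
  · rintro ⟨h1, h3⟩
    exact ⟨h1, fun x => by rw [hτ x], h3⟩

/-- the involution has no fixed point -/
theorem card_cond_fpf (T : Type u) [Fintype T] [DecidableEq T] (τ : T → T)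
    (hτ2 : ∀ x, τ (τ x) = x) (hτ : ∀ x, τ x ≠ x)
    (C : (T → ℕ) → Prop) (N : ℕ) (hC : ∀ a : T → ℕ, C a ↔ ∑ x, a x ≤ N) :
    Nat.card {a : T → ℕ // a ≠ 0 ∧ (∀ x, a (τ x) = a x) ∧ C a} =
      Nat.choose (N / 2 + Fintype.card T / 2) (Fintype.card T / 2) - 1 := by
  rw [← card_tuples_invol T τ hτ2 hτ N]
  refine Nat.card_congr (Equiv.subtypeEquivRight (fun a => ?_))
  rw [hC a]

theorem pascal_sub (N t : ℕ) (hN : 1 ≤ N) (ht : 1 ≤ t) :
    Nat.choose (N - 1 + t) t - 1 =
      Nat.choose (N + t) t - 1 - Nat.choose (N + t - 1) (t - 1) := by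
  obtain ⟨N', rfl⟩ : ∃ N', N = N' + 1 := ⟨N - 1, by omega⟩
  obtain ⟨t', rfl⟩ : ∃ t', t = t' + 1 := ⟨t - 1, by omega⟩
  have h := Nat.choose_succ_succ' (N' + 1 + t') t'
  have e1 : N' + 1 + (t' + 1) = N' + 1 + t' + 1 := by ring
  have e2 : N' + 1 - 1 + (t' + 1) = N' + 1 + t' := by omega
  have e3 : N' + 1 + t' + 1 - 1 = N' + 1 + t' := by omega
  have e4 : t' + 1 - 1 = t' := by omega
  rw [e2, e1, e3, e4, h]
  omega

theorem mul_le_iff_le_div {i s M : ℕ} (hi : 0 < i) : i * s ≤ M ↔ s ≤ M / i := by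
  rw [Nat.le_div_iff_mul_le hi, Nat.mul_comm]

theorem div_div_two (M i : ℕ) : M / i / 2 = M / 2 / i := by
  rw [Nat.div_div_eq_div_mul, Nat.div_div_eq_div_mul, Nat.mul_comm]

theorem mul_eq_iff_eq_div {i s M : ℕ} (hi : 0 < i) (hd : i ∣ M) : i * s = M ↔ s = M / i := by
  obtain ⟨k, rfl⟩ := hd
  rw [Nat.mul_div_cancel_left _ hi]
  constructor
  · intro h
    exact Nat.eq_of_mul_eq_mul_left hi h
  · intro h
    rw [h]

theorem pred_div (m i : ℕ) (hm : 1 ≤ m) :
    (m - 1) / i = if i ∣ m then m / i - 1 else m / i := by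
  obtain ⟨m', rfl⟩ : ∃ m', m = m' + 1 := ⟨m - 1, by omega⟩
  have h := Nat.succ_div (a := m') (b := i)
  rw [Nat.add_sub_cancel]
  by_cases hd : i ∣ m' + 1
  · rw [if_pos hd] at h
    rw [if_pos hd, h, Nat.add_sub_cancel]
  · rw [if_neg hd] at h
    rw [if_neg hd, h, Nat.add_zero]

theorem pkgCountOdd : Cfsg.Agent.Lib.Helper14.OCls.PkgCountOdd.{u} := by
  intro T _ _ τ hτ2 i m hi hT h
  rcases h with ⟨hodd, hτ⟩ | ⟨heven, hτ⟩
  · rw [if_pos hodd]
    rw [card_cond_fpf T τ hτ2 hτ (fun a => i * ∑ x, a x ≤ 2 * m + 1) ((2 * m + 1) / i)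
      (fun a => mul_le_iff_le_div hi)]
    rw [div_div_two]
    have e : (2 * m + 1) / 2 = m := by omega
    rw [e]
  · rw [if_neg (Nat.not_odd_iff_even.mpr heven)]
    exact card_cond_id T τ hτ (fun a => i * ∑ x, a x ≤ 2 * m + 1) ((2 * m + 1) / i)
      (fun a => mul_le_iff_le_div hi)

theorem pkgCountPlus : Cfsg.Agent.Lib.Helper14.OCls.PkgCountPlus.{u} := by
  intro T _ _ τ hτ2 i m hi hm hT h
  rcases h with ⟨hodd, hτ⟩ | ⟨heven, hτ⟩
  · rw [if_pos hodd]
    rw [card_cond_fpf T τ hτ2 hτ (fun a => i * ∑ x, a x ≤ 2 * m ∧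
        (Even i → i * ∑ x, a x = 2 * m → Even (∑ x, a x))) (2 * m / i)
      (fun a => by
        rw [← mul_le_iff_le_div hi]
        constructor
        · exact fun h => h.1
        · exact fun h => ⟨h, fun he => absurd hodd (Nat.not_odd_iff_even.mpr he)⟩)]
    rw [div_div_two]
    have e : 2 * m / 2 = m := by omega
    rw [e]
  · rw [if_neg (Nat.not_odd_iff_even.mpr heven)]
    by_cases hc : i ∣ 2 * m ∧ Odd (2 * m / i)
    · rw [if_pos hc]
      obtain ⟨hd, hN⟩ := hc
      have hN1 : 1 ≤ 2 * m / i := hN.pos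
      rw [card_cond_id T τ hτ (fun a => i * ∑ x, a x ≤ 2 * m ∧
          (Even i → i * ∑ x, a x = 2 * m → Even (∑ x, a x))) (2 * m / i - 1)
        (fun a => by
          rw [mul_le_iff_le_div hi, mul_eq_iff_eq_div hi hd]
          constructor
          · rintro ⟨h1, h2⟩
            have h3 : ∑ x, a x ≠ 2 * m / i := by
              intro h4
              have h5 := h2 heven h4
              rw [h4] at h5
              exact absurd hN (Nat.not_odd_iff_even.mpr h5)
            omega
          · intro h1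
            refine ⟨by omega, fun _ h4 => ?_⟩
            omega)]
      exact pascal_sub _ _ hN1 hT
    · rw [if_neg hc, Nat.sub_zero]
      exact card_cond_id T τ hτ (fun a => i * ∑ x, a x ≤ 2 * m ∧
          (Even i → i * ∑ x, a x = 2 * m → Even (∑ x, a x))) (2 * m / i)
        (fun a => by
          rw [← mul_le_iff_le_div hi]
          constructor
          · exact fun h => h.1
          · intro h1
            refine ⟨h1, fun _ h4 => ?_⟩
            have hd : i ∣ 2 * m := ⟨_, h4.symm⟩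
            have h5 := (mul_eq_iff_eq_div hi hd).mp h4
            rw [h5]
            by_contra h6
            exact hc ⟨hd, Nat.not_even_iff_odd.mp h6⟩)

theorem pkgCountMinus : Cfsg.Agent.Lib.Helper14.OCls.PkgCountMinus.{u} := by
  intro T _ _ τ hτ2 i m hi hm hT h
  rcases h with ⟨hodd, hτ⟩ | ⟨heven, hτ⟩
  · rw [if_pos hodd]
    have hT2 : 1 ≤ Fintype.card T / 2 := by
      obtain ⟨x⟩ : Nonempty T := Fintype.card_pos_iff.mp hT
      have h2 : 1 < Fintype.card T := Fintype.one_lt_card_iff.mpr ⟨τ x, x, hτ x⟩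
      omega
    rw [card_cond_fpf T τ hτ2 hτ (fun a => i * ∑ x, a x ≤ 2 * m ∧
        (i * ∑ x, a x = 2 * m → Even i ∧ Odd (∑ x, a x))) ((2 * m - 1) / i)
      (fun a => by
        have hlt : i * ∑ x, a x ≤ 2 * m - 1 ↔ ∑ x, a x ≤ (2 * m - 1) / i :=
          mul_le_iff_le_div hi
        rw [← hlt]
        constructor
        · rintro ⟨h1, h2⟩
          have h3 : i * ∑ x, a x ≠ 2 * m := by
            intro h4
            exact absurd hodd (Nat.not_odd_iff_even.mpr (h2 h4).1)
          omega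
        · intro h1
          exact ⟨by omega, fun h4 => by omega⟩)]
    rw [div_div_two]
    have e : (2 * m - 1) / 2 = m - 1 := by omega
    rw [e, pred_div m i hm]
    by_cases hd : i ∣ m
    · rw [if_pos hd, if_pos hd]
      have hN1 : 1 ≤ m / i := by
        obtain ⟨k, rfl⟩ := hd
        rw [Nat.mul_div_cancel_left _ hi]
        rcases Nat.eq_zero_or_pos k with rfl | hk
        · omega
        · exact hk
      exact pascal_sub _ _ hN1 hT2
    · rw [if_neg hd, if_neg hd, Nat.sub_zero]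
  · rw [if_neg (Nat.not_odd_iff_even.mpr heven)]
    by_cases hc : i ∣ 2 * m ∧ Even (2 * m / i)
    · rw [if_pos hc]
      obtain ⟨hd, hN⟩ := hc
      have hN1 : 1 ≤ 2 * m / i := by
        obtain ⟨k, hk⟩ := hd
        rw [hk, Nat.mul_div_cancel_left _ hi]
        rcases Nat.eq_zero_or_pos k with rfl | hk'
        · omega
        · exact hk'
      rw [card_cond_id T τ hτ (fun a => i * ∑ x, a x ≤ 2 * m ∧
          (i * ∑ x, a x = 2 * m → Even i ∧ Odd (∑ x, a x))) (2 * m / i - 1)
        (fun a => by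
          rw [mul_le_iff_le_div hi, mul_eq_iff_eq_div hi hd]
          constructor
          · rintro ⟨h1, h2⟩
            have h3 : ∑ x, a x ≠ 2 * m / i := by
              intro h4
              have h5 := (h2 h4).2
              rw [h4] at h5
              exact absurd h5 (Nat.not_odd_iff_even.mpr hN)
            omega
          · intro h1
            refine ⟨by omega, fun h4 => ?_⟩
            omega)]
      exact pascal_sub _ _ hN1 hT
    · rw [if_neg hc, Nat.sub_zero]
      exact card_cond_id T τ hτ (fun a => i * ∑ x, a x ≤ 2 * m ∧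
          (i * ∑ x, a x = 2 * m → Even i ∧ Odd (∑ x, a x))) (2 * m / i)
        (fun a => by
          rw [← mul_le_iff_le_div hi]
          constructor
          · exact fun h => h.1
          · intro h1
            refine ⟨h1, fun h4 => ⟨heven, ?_⟩⟩
            have hd : i ∣ 2 * m := ⟨_, h4.symm⟩
            have h5 := (mul_eq_iff_eq_div hi hd).mp h4
            rw [h5]
            by_contra h6
            exact hc ⟨hd, Nat.not_odd_iff_even.mp h6⟩)

end Cfsg.Agent.Lib.Helper60.OCls
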